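import Cfsg.Agent.FixBN.ReeSplit
import Cfsg.Agent.LieRecognition.SzMatrix
import Cfsg.Agent.S1162
import Cfsg.Agent.Mrg.Omega.ML.LieRow.Row
import Cfsg.Agent.FixBN.SplitRGD
import Cfsg.Agent.Nodes.RGDLie
import Cfsg.Agent.Mrg.ParSys.Fam.TwoFFour
import Cfsg.Agent.S0320
import Mathlib
import Cfsg.Agent.FixBN.OfBN
import Cfsg.Agent.FastGrp
import Cfsg.Agent.Prune
set_option linter.all false

section
prune_inst 0x7f00000000000000000000000000000000000000000000000000000000000000000000000000000000000000000000000000000000000000000000000000000000000000000000000000000000000000003fffffffffffffffffffffffffffbeffbdffffffff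

-- part: Mrg/Omega/ML/LieRow/Lie
section
set_option linter.all false
open scoped Cfsg.Agent.FastGrp

-- merged: Cfsg.Agent.Omega.ML.LieRow.SzSplit
section

/-!
# The split (B,N)-pair of the Suzuki groups
-/

set_option autoImplicit false

namespace Cfsg.Agent.Omega.ML.LieRow.SzSplit

open Cfsg.Agent.FixBN Cfsg.Agent.FixBN.ReeSplit Cfsg.Agent.LieRecognition.SzMatrix

variable {F : Type*} [Field F] {θ : F →+* F} {e : ℕ}

/-- The monomial subgroup. -/
def nSub (H : Good F θ e) : Subgroup ↥(Cfsg.Lie.Sz F e) where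
  carrier := {g | (∃ a, g = H.d a) ∨ ∃ a, g = H.d a * H.w}
  mul_mem' := by
    rintro _ _ (⟨a, rfl⟩ | ⟨a, rfl⟩) (⟨b, rfl⟩ | ⟨b, rfl⟩)
    · exact Or.inl ⟨a * b, H.d_mul a b⟩
    · exact Or.inr ⟨a * b, by rw [← H.d_mul, mul_assoc]⟩
    · exact Or.inr ⟨a * b⁻¹, by rw [← H.d_mul, mul_assoc, H.w_mul_d, mul_assoc]⟩
    · refine Or.inl ⟨a * b⁻¹, ?_⟩
      rw [← H.d_mul]
      calc H.d a * H.w * (H.d b * H.w) = H.d a * (H.w * H.d b) * H.w := by group
        _ = H.d a * H.d b⁻¹ * (H.w * H.w) := by rw [H.w_mul_d]; group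
        _ = _ := by rw [H.w_mul_w, mul_one]
  one_mem' := Or.inl ⟨1, H.d_one.symm⟩
  inv_mem' := by
    rintro _ (⟨a, rfl⟩ | ⟨a, rfl⟩)
    · exact Or.inl ⟨a⁻¹, H.d_inv a⟩
    · refine Or.inr ⟨a, ?_⟩
      rw [_root_.mul_inv_rev, H.w_inv, H.d_inv, H.w_mul_d, inv_inv]

/-- elements of `B ∩ N` are in the torus -/
theorem mem_inf (H : Good F θ e) {g : ↥(Cfsg.Lie.Sz F e)} (hB : g ∈ H.borel) (hN : g ∈ nSub H) : ∃ a, g = H.d a := by
  rcases hN with h1 | ⟨a, rfl⟩
  · exact h1
  · exfalso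
    apply H.w_not_mem_borel
    have h1 := mul_mem (inv_mem (H.d_mem_borel a)) hB
    rwa [inv_mul_cancel_left] at h1

theorem bruhat' (H : Good F θ e) (g : ↥(Cfsg.Lie.Sz F e)) :
    g ∈ H.borel ∨ ∃ b ∈ H.borel, ∃ b' ∈ H.borel, g = b * H.w * b' := by
  by_cases hg : g ∈ H.borel
  · exact Or.inl hg
  · obtain ⟨s, hs, h⟩ := H.bruhat_sz g hg
    exact Or.inr ⟨s, H.unip_le_borel hs, _, h, by group⟩

theorem u_one_ne (H : Good F θ e) : H.u 1 0 ≠ 1 := by
  rw [← H.u_zero]
  exact fun h => one_ne_zero (H.u_inj h).1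

/-- The (B,N)-pair. -/
def bnPair (H : Good F θ e) : Cfsg.BNPair ↥(Cfsg.Lie.Sz F e) :=
  rankOne H.borel (nSub H) H.w (Or.inr ⟨1, by rw [H.d_one, one_mul]⟩)
    (by rw [H.w_mul_w]; exact one_mem _) (bruhat' H)
    (by
      rintro g (⟨a, rfl⟩ | ⟨a, rfl⟩)
      · exact Or.inl (H.d_mem_borel a)
      · exact Or.inr ⟨H.d a, ⟨H.d_mem_borel a, Or.inl ⟨a, rfl⟩⟩, rfl⟩)
    (by
      rintro t ⟨ht1, ht2⟩
      obtain ⟨a, rfl⟩ := mem_inf H ht1 ht2
      rw [H.w_mul_d, mul_inv_cancel_right]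
      exact H.d_mem_borel _)
    (by
      refine ⟨H.u 1 0, H.u_mem_borel 1 0, fun hn => ?_⟩
      rw [← H.w_inv] at hn
      have h2 : (H.w)⁻¹ * H.u 1 0 * H.w ∈ H.borel := by
        have : (H.w)⁻¹ * H.u 1 0 * (H.w)⁻¹ = (H.w)⁻¹ * H.u 1 0 * H.w := by rw [H.w_inv]
        rwa [this] at hn
      exact u_one_ne H (H.inter_trivial _ (H.u_mem_unip 1 0) h2))

theorem split [Fintype F] {m : ℕ} (hm : 1 ≤ m) (hF : Fintype.card F = 2 ^ (2 * m + 1)) (H : Good F θ e)
    (hs : IsSimpleGroup ↥(Cfsg.Lie.Sz F e)) : Split (bnPair H) 2 H.unip := by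
  have : Fact (Nat.Prime 2) := ⟨Nat.prime_two⟩
  refine ⟨H.unip_le_borel, H.borel_normalizes, ?_, ?_, ⟨Fintype.card F - 1, ?_, ?_⟩, ?_, ?_⟩
  · apply IsPGroup.of_card (n := (2 * m + 1) * 2)
    rw [H.card_unip, Nat.card_eq_fintype_card, hF, ← pow_mul]
  · intro b hb
    obtain ⟨a, c, k, rfl⟩ := (H.mem_borel_iff' b).1 hb
    refine ⟨H.u a c, H.u_mem_unip a c, ?_⟩
    rw [inv_mul_cancel_left]
    exact Or.inl ⟨k, rfl⟩
  · rw [hF]
    have h1 : 2 ∣ 2 ^ (2 * m + 1) := dvd_pow_self 2 (by omega)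
    have h2 : 0 < 2 ^ (2 * m + 1) := by positivity
    omega
  · intro g hB hN
    obtain ⟨a, rfl⟩ := mem_inf H hB hN
    have h1 : ∀ k : ℕ, H.d a ^ k = H.d (a ^ k) := by
      intro k
      induction k with
      | zero => rw [pow_zero, pow_zero, H.d_one]
      | succ k ih => rw [pow_succ, ih, pow_succ, H.d_mul]
    rw [h1]
    have h2 : a ^ (Fintype.card F - 1) = 1 := by
      have h3 : Nat.card Fˣ = Fintype.card F - 1 := by rw [Nat.card_units, Nat.card_eq_fintype_card]
      rw [← h3]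
      exact pow_card_eq_one'
    rw [h2, H.d_one]
  · intro s hs'
    have hs'' : s = H.w := hs'
    subst hs''
    refine ⟨⊥, bot_le, ⟨H.u 1 0, H.u_mem_unip 1 0, fun h1 => u_one_ne H (Subgroup.mem_bot.1 h1)⟩, ?_, ?_, ?_⟩
    · intro b _ v hv
      rw [Subgroup.mem_bot] at hv ⊢
      rw [hv]; group
    · intro v hv
      rw [Subgroup.mem_bot] at hv ⊢
      rw [hv]; group
    · intro u hu hB
      rw [Subgroup.mem_bot]
      exact H.inter_trivial u hu hB
  · rcases hs.eq_bot_or_eq_top_of_normal (bnPair H).B.normalCore inferInstance with h | h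
    · exact h
    · exfalso
      have h1 : (bnPair H).B = ⊤ := by
        rw [eq_top_iff, ← h]
        exact Subgroup.normalCore_le _
      apply H.w_not_mem_borel
      have h2 : H.w ∈ (bnPair H).B := by rw [h1]; trivial
      exact h2

/-- The split (B,N)-pair of `Sz(q)`. -/
theorem hasSplit_of_isoSuzuki {G : Type*} [Group G] (h : Cfsg.Lie.IsoSuzuki G) : HasSplit 2 G := by
  obtain ⟨K, i1, i2, m, hm, hK, ⟨e⟩⟩ := h
  have H := good hK
  have hs : IsSimpleGroup ↥(Cfsg.Lie.Sz K (2 ^ (m + 1))) := Cfsg.Agent.S1162.result hm hK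
  exact Transport.hasSplit_congr e.symm ⟨bnPair H, H.unip, ⟨H.w, rfl⟩, split hm hK H hs⟩

end Cfsg.Agent.Omega.ML.LieRow.SzSplit

end

-- merged: Cfsg.Agent.Mrg.Omega.ML.LieRow.Lie
section

/-!
# (ML), the rows of Lie type in characteristic two

* `hasSplit_of_lie` : every simple group of Lie type in characteristic two has a split (B,N)-pair;
* `oppSyl_of_hasSplit` : `K` simple and normal in `H`, with a split (B,N)-pair of characteristic two, `C_H(K) = 1`,
  `K T = H`: then `OppSyl T`;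
* **`dead_lie`** : the row `Dead (IsLieTypeChar 2)`.
-/

set_option autoImplicit false

namespace Cfsg.Agent.Omega.ML.LieRow

open Subgroup Cfsg Cfsg.Agent.ZN Cfsg.Agent.Omega.ML.Rows
open Cfsg.Agent.Tits.Core Cfsg.Agent.Tits.OfBN Cfsg.Agent.Schreier.BNSch Cfsg.Agent.FixBN

universe u v

/-- a nontrivial group has no root group datum of rank zero -/
theorem hasSplit_of_rgd {p : ℕ} (hp : p.Prime) {G : Type*} [Group G] [IsSimpleGroup G]
    (h : Nodes.RGDChev.HasRGD p G) : HasSplit p G := by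
  obtain ⟨l, M, A, h, T, n, X, hW, R, hX⟩ := h
  rcases Nat.eq_zero_or_pos l with rfl | hl
  · exfalso
    have h1 : Nodes.RGDLib.G1 M.toCoxeterSystem h X = ⊥ := by
      rw [eq_bot_iff]
      unfold Nodes.RGDLib.G1 Nodes.BNOf.RGD.Sup
      refine iSup_le ?_
      rintro ⟨x, w, i, -⟩
      exact i.elim0
    rw [h1] at hX
    obtain ⟨x, y, hxy⟩ := exists_pair_ne G
    have h2 : ∀ z : G, z = 1 := fun z => mem_bot.1 (by rw [hX]; trivial)
    exact hxy ((h2 x).trans (h2 y).symm)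
  · have : Nonempty (Fin l) := ⟨⟨0, hl⟩⟩
    exact SplitRGD.hasSplit_of_rgd hp R (by
      rw [eq_top_iff, ← hX]
      exact Nodes.RGDLib.rgd_G1_le R)

/-- Every simple group of Lie type in characteristic two has a split (B,N)-pair. -/
theorem hasSplit_of_lie {G : Type*} [Group G] [IsSimpleGroup G] (h : IsLieTypeChar 2 G) : HasSplit 2 G := by
  rcases Nodes.RGDLie.hasRGD_of_lie h with h | ⟨-, h⟩ | ⟨-, h⟩ | ⟨h, -⟩
  · exact hasSplit_of_rgd Nat.prime_two h
  · exact SzSplit.hasSplit_of_isoSuzuki h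
  · obtain ⟨K, i1, i2, m, hm, hK, ⟨e⟩⟩ := h
    obtain ⟨Q, UE, s, t, hp, -⟩ := ParSys.Fam.TwoFFour.exists_all hm hK
    refine Transport.hasSplit_congr e.symm ⟨Q, UE, ⟨s, ?_⟩, hp.split⟩
    rw [hp.S]
    exact Set.mem_insert _ _
  · omega

/-- **The opposite Sylow group, for split (B,N)-pairs.** -/
theorem oppSyl_of_hasSplit {H : Type*} [Group H] [Finite H] {K : Subgroup H} (hK : K.Normal) (hs : IsSimpleGroup K)
    (h : HasSplit 2 K) (hC : centralizer (K : Set H) = ⊥) {T : Subgroup H} (hT : IsPGroup 2 T)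
    (hTi : ¬ 2 ∣ T.index) (hKT : K ⊔ T = ⊤) : OppSyl T := by
  have : Fact (Nat.Prime 2) := ⟨Nat.prime_two⟩
  obtain ⟨P, U, hne, h⟩ := h
  have hN : ((P.B ⊓ P.N).subgroupOf P.N).Normal := normal_subgroupOf P
  obtain ⟨M, cs, hcs⟩ := S0320.result P
  have hI : Finite P.S := OfBN.finite_I (Equiv.refl P.S)
  have hIn : Nonempty P.S := hne.to_subtype
  have S := OfBN.sys (Equiv.refl P.S) cs hcs h
  have hth := thick P (Equiv.refl P.S) cs hcs
  obtain ⟨A⟩ := exists_hact S hth (fun τ => UGT.U2.FOne.exists_mv h (Equiv.refl P.S) cs hcs τ)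
  refine oppSyl_of_hact A S hth ?_ hT hTi hKT
  intro x hx
  have h1 : x ∈ centralizer (K : Set H) := mem_centralizer_iff.2 fun k hk => (hx k hk).symm
  rwa [hC, mem_bot] at h1

/-- `OppSyl` for the socles of Lie type in characteristic two. -/
theorem oppG_lie : OppG.{u} (fun S _ => HasSplit 2 S) := by
  intro X _ _ S T hn hs hc hT hTi hST h
  exact oppSyl_of_hasSplit hn hs h hc hT hTi hST

/-- The row of the simple groups with a split (B,N)-pair of characteristic two. -/
theorem dead_split : Dead.{u, v} (fun S _ => HasSplit 2 S) :=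
  oppG_lie.dead fun _ _ _ _ e h => Transport.hasSplit_congr e h

/-- **The row of the groups of Lie type in characteristic two.** -/
theorem dead_lie : Dead.{u, v} (fun S _ => IsLieTypeChar 2 S) := by
  intro H _ _ M _ _ _ K T A h hK
  have := h.qs.2
  exact dead_split H M K T A h (hasSplit_of_lie hK)

end Cfsg.Agent.Omega.ML.LieRow

end
end

-- part: H996/AllSplit
section
set_option linter.all false
open scoped Cfsg.Agent.FastGrp

/-!
# Every finite simple group of Lie type in characteristic `p` has a split (B,N)-pair of characteristic `p`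

`hasSplit_of_lie` : all sixteen families, every characteristic.  (`FixBN.HasSplit p G`.)
-/

set_option autoImplicit false

namespace Cfsg.Agent.H996.AllSplit

open Cfsg Cfsg.Agent.FixBN

/-- Every finite simple group of Lie type in characteristic `p` (all 16 families) has a split (B,N)-pair of
characteristic `p`. -/
theorem hasSplit_of_lie {p : ℕ} (hp : p.Prime) {G : Type*} [Group G] [IsSimpleGroup G]
    (h : IsLieTypeChar p G) : HasSplit p G := by
  rcases Nodes.RGDLie.hasRGD_of_lie h with h2 | ⟨rfl, h2⟩ | ⟨rfl, h2⟩ | ⟨rfl, h2⟩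
  · exact Omega.ML.LieRow.hasSplit_of_rgd hp h2
  · exact Omega.ML.LieRow.SzSplit.hasSplit_of_isoSuzuki h2
  · obtain ⟨K, i1, i2, m, hm, hK, ⟨e⟩⟩ := h2
    obtain ⟨Q, UE, s, t, hp, -⟩ := ParSys.Fam.TwoFFour.exists_all hm hK
    refine Transport.hasSplit_congr e.symm ⟨Q, UE, ⟨s, ?_⟩, hp.split⟩
    rw [hp.S]
    exact Set.mem_insert _ _
  · exact ReeSplit.hasSplit_of_isoRee h2

end Cfsg.Agent.H996.AllSplit
end

-- part: H498/LieFree
section
set_option linter.all false
open scoped Cfsg.Agent.FastGrp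

-- part: H498/CosetFix
section
/-!
# Cosets of a normal subgroup contained in a conjugacy class: fixed points

If all the elements of the coset `x N` (`N` normal in `G`) are conjugate to `x`, then `x` has exactly one fixed
point on each `G`-set on which `N` is transitive.
-/

set_option autoImplicit false

namespace Cfsg.Agent.H498.CosetFix

open MulAction

variable {G : Type*} [Group G]

/-- the number of fixed points is a class function -/
theorem card_fixedBy_conj {Ω : Type*} [MulAction G Ω] {x y : G} (h : IsConj x y) :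
    Nat.card (fixedBy Ω x) = Nat.card (fixedBy Ω y) := by
  obtain ⟨c, hc⟩ := isConj_iff.1 h
  refine Nat.card_congr ⟨fun ω => ⟨c • ω.1, ?_⟩, fun ω => ⟨c⁻¹ • ω.1, ?_⟩, fun ω => ?_, fun ω => ?_⟩
  · have h1 : x • ω.1 = ω.1 := ω.2
    show y • c • ω.1 = c • ω.1
    rw [← hc, smul_smul, inv_mul_cancel_right, mul_smul, h1]
  · have h1 : y • ω.1 = ω.1 := ω.2
    show x • c⁻¹ • ω.1 = c⁻¹ • ω.1
    have h2 : x * c⁻¹ = c⁻¹ * y := by rw [← hc]; group
    rw [smul_smul, h2, mul_smul, h1]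
  · exact Subtype.ext (inv_smul_smul c ω.1)
  · exact Subtype.ext (smul_inv_smul c ω.1)

/-- **The fixed point lemma.** -/
theorem card_fixedBy_eq_one {Ω : Type*} [Finite G] [Finite Ω] [Nonempty Ω] [MulAction G Ω] (N : Subgroup G)
    (htr : ∀ a b : Ω, ∃ n ∈ N, n • a = b) {x : G} (hx : ∀ n ∈ N, IsConj x (x * n)) :
    Nat.card (fixedBy Ω x) = 1 := by
  classical
  have hpos : 0 < Nat.card Ω := Nat.card_pos
  -- the pairs `(n, ω)` with `x n ω = ω`
  have h1 : Nat.card {p : N × Ω // (x * (p.1 : G)) • p.2 = p.2} = Nat.card N * Nat.card (fixedBy Ω x) := by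
    have e : {p : N × Ω // (x * (p.1 : G)) • p.2 = p.2} ≃ Σ n : N, fixedBy Ω (x * (n : G)) :=
      ⟨fun p => ⟨p.1.1, ⟨p.1.2, p.2⟩⟩, fun p => ⟨(p.1, p.2.1), p.2.2⟩, fun _ => rfl, fun _ => rfl⟩
    have : Fintype N := Fintype.ofFinite N
    rw [Nat.card_congr e, Nat.card_sigma]
    rw [Finset.sum_congr rfl (fun (n : N) _ => (card_fixedBy_conj (Ω := Ω) (hx (n : G) n.2)).symm)]
    rw [Finset.sum_const, Finset.card_univ, smul_eq_mul, Nat.card_eq_fintype_card (α := N)]
  have h2 : Nat.card {p : N × Ω // (x * (p.1 : G)) • p.2 = p.2} = Nat.card N := by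
    have e : {p : N × Ω // (x * (p.1 : G)) • p.2 = p.2} ≃ Σ ω : Ω, {n : N // (x * (n : G)) • ω = ω} :=
      ⟨fun p => ⟨p.1.2, ⟨p.1.1, p.2⟩⟩, fun p => ⟨(p.2.1, p.1), p.2.2⟩, fun _ => rfl, fun _ => rfl⟩
    have : Fintype Ω := Fintype.ofFinite Ω
    rw [Nat.card_congr e, Nat.card_sigma]
    have h3 : ∀ ω : Ω, Nat.card {n : N // (x * (n : G)) • ω = ω} * Nat.card Ω = Nat.card N := by
      intro ω
      obtain ⟨n₀, hn₀, hn₀'⟩ := htr ω (x⁻¹ • ω)
      have h4 : Nat.card {n : N // (x * (n : G)) • ω = ω} = Nat.card (stabilizer N ω) := by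
        refine Nat.card_congr ⟨fun n => ⟨⟨n₀, hn₀⟩⁻¹ * n.1, ?_⟩, fun n => ⟨⟨n₀, hn₀⟩ * n.1, ?_⟩, fun n => ?_,
          fun n => ?_⟩
        · rw [mem_stabilizer_iff]
          have h5 := n.2
          show (n₀⁻¹ * (n.1 : G)) • ω = ω
          rw [mul_smul, inv_smul_eq_iff, hn₀', eq_inv_smul_iff, ← mul_smul]
          exact h5
        · have h5 : (n.1 : G) • ω = ω := n.2
          show (x * (n₀ * (n.1 : G))) • ω = ω
          rw [mul_smul, mul_smul, h5, hn₀', smul_inv_smul]
        · exact Subtype.ext (mul_inv_cancel_left _ _)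
        · exact Subtype.ext (inv_mul_cancel_left _ _)
      have h5 : orbit N ω = Set.univ := by
        rw [Set.eq_univ_iff_forall]
        intro b
        obtain ⟨n, hn, hb⟩ := htr ω b
        exact ⟨⟨n, hn⟩, hb⟩
      have : Fintype N := Fintype.ofFinite N
      have : Fintype (stabilizer N ω) := Fintype.ofFinite _
      have h6 := card_orbit_mul_card_stabilizer_eq_card_group N ω
      rw [← Nat.card_eq_fintype_card, ← Nat.card_eq_fintype_card, ← Nat.card_eq_fintype_card, h5,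
        Nat.card_univ] at h6
      rw [h4, mul_comm, h6]
    have h7 : (∑ ω : Ω, Nat.card {n : N // (x * (n : G)) • ω = ω}) * Nat.card Ω = Nat.card N * Nat.card Ω := by
      rw [Finset.sum_mul, Finset.sum_congr rfl (fun ω _ => h3 ω), Finset.sum_const, Finset.card_univ,
        smul_eq_mul, mul_comm, Nat.card_eq_fintype_card (α := Ω)]
    exact Nat.eq_of_mul_eq_mul_right hpos h7
  rw [h1] at h2
  have hN : 0 < Nat.card N := Nat.card_pos
  have h8 : Nat.card N * Nat.card (fixedBy Ω x) = Nat.card N * 1 := by rw [h2, mul_one]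
  exact Nat.eq_of_mul_eq_mul_left hN h8

theorem existsUnique_fixed {Ω : Type*} [Finite G] [Finite Ω] [Nonempty Ω] [MulAction G Ω] (N : Subgroup G)
    (htr : ∀ a b : Ω, ∃ n ∈ N, n • a = b) {x : G} (hx : ∀ n ∈ N, IsConj x (x * n)) :
    ∃! ω : Ω, x • ω = ω := by
  have h1 := card_fixedBy_eq_one N htr hx
  rw [Nat.card_eq_one_iff_unique] at h1
  obtain ⟨h2, ⟨ω⟩⟩ := h1
  exact ⟨ω.1, ω.2, fun b hb => congrArg Subtype.val (h2.elim ⟨b, hb⟩ ω)⟩

/-- the condition passes to quotients -/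
theorem isConj_quotient {x : G} {N : Subgroup G} (hx : ∀ n ∈ N, IsConj x (x * n)) (L : Subgroup G) [L.Normal] :
    ∀ n ∈ N.map (QuotientGroup.mk' L), IsConj (QuotientGroup.mk' L x) (QuotientGroup.mk' L x * n) := by
  rintro _ ⟨n, hn, rfl⟩
  rw [← map_mul]
  obtain ⟨c, hc⟩ := isConj_iff.1 (hx n hn)
  exact isConj_iff.2 ⟨QuotientGroup.mk' L c, by rw [← hc]; simp⟩

end Cfsg.Agent.H498.CosetFix
end

-- part: H498/CosetRed
section
/-!
# Cosets of a normal subgroup contained in a conjugacy class: reduction to simple groups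

Let `V` be normal in the finite group `G` and `x ∈ G` with all the elements of `x V` conjugate to `x`. If `L` is a
simple normal subgroup of `V` and `m` is the length of its orbit under `x`, `α` the automorphism of `L` induced by
`x ^ m`, then all the elements of the coset `α Inn(L)` are conjugate to `α` in `Aut(L)`.
-/

set_option autoImplicit false

namespace Cfsg.Agent.H498.CosetRed

variable {G : Type*} [Group G]

/-- the conjugate `g K g⁻¹` -/
def cj (g : G) (K : Subgroup G) : Subgroup G := K.map (MulAut.conj g).toMonoidHom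

theorem mem_cj {g y : G} {K : Subgroup G} : y ∈ cj g K ↔ g⁻¹ * y * g ∈ K := by
  constructor
  · rintro ⟨k, hk, rfl⟩
    have : g⁻¹ * ((MulAut.conj g).toMonoidHom k) * g = k := by
      simp only [MulEquiv.coe_toMonoidHom, MulAut.conj_apply]
      group
    rwa [this]
  · intro h
    refine ⟨_, h, ?_⟩
    simp only [MulEquiv.coe_toMonoidHom, MulAut.conj_apply]
    group

theorem cj_mul (g h : G) (K : Subgroup G) : cj (g * h) K = cj g (cj h K) := by
  ext y
  rw [mem_cj, mem_cj, mem_cj]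
  have : (g * h)⁻¹ * y * (g * h) = h⁻¹ * (g⁻¹ * y * g) * h := by group
  rw [this]

theorem cj_one (K : Subgroup G) : cj 1 K = K := by
  ext y
  rw [mem_cj, inv_one, one_mul, mul_one]

theorem conj_mem_cj {g k : G} {K : Subgroup G} (hk : k ∈ K) : g * k * g⁻¹ ∈ cj g K := by
  rw [mem_cj]
  have : g⁻¹ * (g * k * g⁻¹) * g = k := by group
  rwa [this]

/-- the isomorphism of `K` on its conjugate -/
noncomputable def cjEquiv (g : G) (K : Subgroup G) : K ≃* cj g K :=
  K.equivMapOfInjective (MulAut.conj g).toMonoidHom (MulAut.conj g).injective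

theorem coe_cjEquiv (g : G) (K : Subgroup G) (k : K) : (cjEquiv g K k : G) = g * k * g⁻¹ := rfl

/-- the simple normal subgroups of `V` -/
structure Fac (V K : Subgroup G) : Prop where
  le : K ≤ V
  norm : ∀ v ∈ V, ∀ k ∈ K, v * k * v⁻¹ ∈ K
  simple : IsSimpleGroup K

theorem Fac.cj {V : Subgroup G} [V.Normal] {K : Subgroup G} (h : Fac V K) (g : G) : Fac V (cj g K) := by
  refine ⟨fun y hy => ?_, fun v hv k hk => ?_, ?_⟩
  · have h1 := h.le (mem_cj.1 hy)
    have h2 := (inferInstance : V.Normal).conj_mem _ h1 g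
    have h3 : g * (g⁻¹ * y * g) * g⁻¹ = y := by group
    rwa [h3] at h2
  · rw [mem_cj] at hk ⊢
    have h1 := h.norm (g⁻¹ * v * g) (by
      have h2 := (inferInstance : V.Normal).conj_mem _ hv g⁻¹
      rwa [inv_inv] at h2) _ hk
    have h3 : g⁻¹ * v * g * (g⁻¹ * k * g) * (g⁻¹ * v * g)⁻¹ = g⁻¹ * (v * k * v⁻¹) * g := by group
    rwa [h3] at h1
  · have := h.simple
    exact (cjEquiv g K).symm.isSimpleGroup

theorem Fac.eq_of_le {V : Subgroup G} {K K' : Subgroup G} (h : Fac V K) (h' : Fac V K') (hle : K ≤ K') : K = K' := by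
  have hn : (K.subgroupOf K').Normal := by
    constructor
    intro n hn g
    rw [Subgroup.mem_subgroupOf] at hn ⊢
    exact h.norm _ (h'.le g.2) _ hn
  have := h'.simple
  rcases hn.eq_bot_or_eq_top with h1 | h1
  · exfalso
    have := h.simple
    obtain ⟨a, ha⟩ := exists_ne (1 : K)
    apply ha
    have h2 : (⟨a, hle a.2⟩ : K') ∈ K.subgroupOf K' := a.2
    rw [h1, Subgroup.mem_bot] at h2
    have h3 : (a : G) = 1 := congrArg (fun z : K' => (z : G)) h2
    exact Subtype.ext h3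
  · exact le_antisymm hle (Subgroup.subgroupOf_eq_top.1 h1)

/-- distinct simple normal subgroups commute -/
theorem Fac.comm {V : Subgroup G} {K K' : Subgroup G} (h : Fac V K) (h' : Fac V K') (hne : K ≠ K') {k k' : G}
    (hk : k ∈ K) (hk' : k' ∈ K') : k * k' = k' * k := by
  have hn : ((K ⊓ K').subgroupOf K).Normal := by
    constructor
    intro n hn g
    rw [Subgroup.mem_subgroupOf] at hn ⊢
    exact ⟨h.norm _ (h.le g.2) _ hn.1, h'.norm _ (h.le g.2) _ hn.2⟩
  have := h.simple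
  rcases hn.eq_bot_or_eq_top with h1 | h1
  · have h2 : k * k' * k⁻¹ * k'⁻¹ ∈ K ⊓ K' := by
      refine ⟨?_, ?_⟩
      · have h3 := h.norm k' (h'.le hk') _ (inv_mem hk)
        have h4 : k * k' * k⁻¹ * k'⁻¹ = k * (k' * k⁻¹ * k'⁻¹) := by group
        rw [h4]
        exact K.mul_mem hk h3
      · exact K'.mul_mem (h'.norm k (h.le hk) _ hk') (K'.inv_mem hk')
    have h3 : (⟨k * k' * k⁻¹ * k'⁻¹, h2.1⟩ : K) ∈ (K ⊓ K').subgroupOf K := h2
    rw [h1, Subgroup.mem_bot] at h3
    have h4 : k * k' * k⁻¹ * k'⁻¹ = 1 := congrArg Subtype.val h3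
    rw [mul_inv_eq_one, mul_inv_eq_iff_eq_mul] at h4
    exact h4
  · exact absurd (h.eq_of_le h' fun a ha => ((Subgroup.subgroupOf_eq_top.1 h1) ha).2) hne

/-- the automorphism of `L` induced by `g` -/
def autOf (L : Subgroup G) (g : G) (h : cj g L = L) : MulAut L where
  toFun l := ⟨g * l * g⁻¹, by have h1 := conj_mem_cj (g := g) l.2; rwa [h] at h1⟩
  invFun l := ⟨g⁻¹ * l * g, by rw [← mem_cj, h]; exact l.2⟩
  left_inv l := Subtype.ext (by show g⁻¹ * (g * l * g⁻¹) * g = l; group)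
  right_inv l := Subtype.ext (by show g * (g⁻¹ * l * g) * g⁻¹ = l; group)
  map_mul' a b := Subtype.ext (by show g * (a * b) * g⁻¹ = g * a * g⁻¹ * (g * b * g⁻¹); group)

theorem coe_autOf (L : Subgroup G) (g : G) (h : cj g L = L) (l : L) : (autOf L g h l : G) = g * l * g⁻¹ := rfl

/-- the auxiliary property of `(K, g)` : `(K, g ^ m)` is isomorphic to `(L, α)` -/
def Q (L : Subgroup G) (m : ℕ) (α : MulAut L) (K : Subgroup G) (g : G) : Prop :=
  ∃ θ : L ≃* K, ∀ l : L, g ^ m * θ l * (g ^ m)⁻¹ = θ (α l)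

theorem Q.conj {L : Subgroup G} {m : ℕ} {α : MulAut L} {K : Subgroup G} {g : G} (h : Q L m α K g) (c : G) :
    Q L m α (cj c K) (c * g * c⁻¹) := by
  obtain ⟨θ, hθ⟩ := h
  refine ⟨θ.trans (cjEquiv c K), fun l => ?_⟩
  rw [MulEquiv.trans_apply, MulEquiv.trans_apply, coe_cjEquiv, coe_cjEquiv, ← hθ, conj_pow]
  group

/-- the number of simple normal subgroups with property `Q` -/
noncomputable def num (V L : Subgroup G) (m : ℕ) (α : MulAut L) (g : G) : ℕ :=
  Nat.card {K : Subgroup G // Fac V K ∧ Q L m α K g}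

theorem num_conj (V L : Subgroup G) [V.Normal] (m : ℕ) (α : MulAut L) {g g' : G} (h : IsConj g g') :
    num V L m α g = num V L m α g' := by
  obtain ⟨c, hc⟩ := isConj_iff.1 h
  refine Nat.card_congr ⟨fun K => ⟨cj c K.1, K.2.1.cj c, ?_⟩, fun K => ⟨cj c⁻¹ K.1, K.2.1.cj c⁻¹, ?_⟩, fun K => ?_,
    fun K => ?_⟩
  · rw [← hc]
    exact K.2.2.conj c
  · have h1 : g = c⁻¹ * g' * c⁻¹⁻¹ := by rw [← hc]; group
    rw [h1]
    exact K.2.2.conj c⁻¹
  · apply Subtype.ext
    show cj c⁻¹ (cj c K.1) = K.1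
    rw [← cj_mul, inv_mul_cancel, cj_one]
  · apply Subtype.ext
    show cj c (cj c⁻¹ K.1) = K.1
    rw [← cj_mul, mul_inv_cancel, cj_one]

/-- `(x s) ^ i = x ^ i * w i` -/
def w (x s : G) : ℕ → G
  | 0 => 1
  | i + 1 => x⁻¹ * w x s i * x * s

theorem pow_eq (x s : G) (i : ℕ) : (x * s) ^ i = x ^ i * w x s i := by
  induction i with
  | zero => rw [pow_zero, pow_zero, w, mul_one]
  | succ i ih =>
    rw [pow_succ, ih, pow_succ, w]
    group

theorem w_mem {V : Subgroup G} [V.Normal] {x s : G} (hs : s ∈ V) (i : ℕ) : w x s i ∈ V := by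
  induction i with
  | zero => exact one_mem _
  | succ i ih =>
    rw [w]
    have h2 := (inferInstance : V.Normal).conj_mem _ ih x⁻¹
    rw [inv_inv] at h2
    exact mul_mem h2 hs

variable {V L : Subgroup G} [V.Normal] {x s : G}

theorem cj_x_of_orbit [Finite G] {K : Subgroup G} (hK : ∀ j : ℕ, K ≠ cj (x ^ j) L) (j : ℕ) : cj x K ≠ cj (x ^ j) L := by
  intro h
  apply hK (orderOf x - 1 + j)
  have h1 : 0 < orderOf x := orderOf_pos x
  have h2 : cj x⁻¹ (cj x K) = cj x⁻¹ (cj (x ^ j) L) := by rw [h]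
  rw [← cj_mul, inv_mul_cancel, cj_one, ← cj_mul] at h2
  have h3 : x⁻¹ = x ^ (orderOf x - 1) := by
    rw [inv_eq_iff_mul_eq_one, ← pow_succ', Nat.sub_add_cancel h1, pow_orderOf_eq_one]
  rw [h2, pow_add, ← h3]

theorem w_comm_far [Finite G] (hL : Fac V L) (hs : s ∈ L) (i : ℕ) :
    ∀ K : Subgroup G, Fac V K → (∀ j : ℕ, K ≠ cj (x ^ j) L) → ∀ k ∈ K, w x s i * k = k * w x s i := by
  induction i with
  | zero => intro K _ _ k _; rw [w, one_mul, mul_one]
  | succ i ih =>
    intro K hK hKj k hk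
    have h1 := ih (cj x K) (hK.cj x) (cj_x_of_orbit hKj) (x * k * x⁻¹) (conj_mem_cj hk)
    have hne : L ≠ K := by
      intro h
      apply hKj 0
      rw [pow_zero, cj_one, h]
    have h2 : s * k = k * s := hL.comm hK hne hs hk
    rw [w]
    calc x⁻¹ * w x s i * x * s * k = x⁻¹ * w x s i * x * (s * k) := by group
      _ = x⁻¹ * (w x s i * (x * k * x⁻¹)) * x * s := by rw [h2]; group
      _ = k * (x⁻¹ * w x s i * x * s) := by rw [h1]; group

theorem w_comm_near (hL : Fac V L) (hs : s ∈ L) {m : ℕ} (hm : ∀ k, 1 ≤ k → k < m → cj (x ^ k) L ≠ L) (i : ℕ) :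
    ∀ k : ℕ, 1 ≤ k → k + i ≤ m → ∀ y ∈ cj (x ^ k) L, w x s i * y = y * w x s i := by
  induction i with
  | zero => intro k _ _ y _; rw [w, one_mul, mul_one]
  | succ i ih =>
    intro k hk hkm y hy
    have h1 : x * y * x⁻¹ ∈ cj (x ^ (k + 1)) L := by
      rw [pow_succ', cj_mul]
      exact conj_mem_cj hy
    have h2 := ih (k + 1) (by omega) (by omega) _ h1
    have h3 : s * y = y * s := hL.comm (hL.cj _) (hm k hk (by omega)).symm hs hy
    rw [w]
    calc x⁻¹ * w x s i * x * s * y = x⁻¹ * w x s i * x * (s * y) := by group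
      _ = x⁻¹ * (w x s i * (x * y * x⁻¹)) * x * s := by rw [h3]; group
      _ = y * (x⁻¹ * w x s i * x * s) := by rw [h2]; group

/-- **The reduction to automorphism groups of simple groups.** -/
theorem exists_aut [Finite G] (hx : ∀ v ∈ V, IsConj x (x * v)) (hL : Fac V L) :
    ∃ α : MulAut L, ∀ s : L, IsConj α (α * MulAut.conj s) := by
  classical
  have hex : ∃ m : ℕ, 1 ≤ m ∧ cj (x ^ m) L = L :=
    ⟨orderOf x, orderOf_pos x, by rw [pow_orderOf_eq_one, cj_one]⟩
  obtain ⟨hm1, hmL⟩ := Nat.find_spec hex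
  have hmin : ∀ k, 1 ≤ k → k < Nat.find hex → cj (x ^ k) L ≠ L := fun k hk hkm h => Nat.find_min hex hkm ⟨hk, h⟩
  set m := Nat.find hex with hm
  refine ⟨autOf L (x ^ m) hmL, fun s => ?_⟩
  set α := autOf L (x ^ m) hmL with hα
  have hsV : (s : G) ∈ V := hL.le s.2
  -- `Q L` holds for `x`
  have hQx : Q L m α L x := ⟨MulEquiv.refl L, fun l => rfl⟩
  -- the main claim
  have hQ : Q L m α L (x * s) := by
    by_contra hcon
    have h1 : num V L m α x = num V L m α (x * s) := num_conj V L m α (hx s hsV)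
    have hsub : {K : Subgroup G | Fac V K ∧ Q L m α K (x * s)} ⊂ {K : Subgroup G | Fac V K ∧ Q L m α K x} := by
      rw [Set.ssubset_iff_of_subset]
      · exact ⟨L, ⟨hL, hQx⟩, fun h => hcon h.2⟩
      · rintro K ⟨hK, hKQ⟩
        refine ⟨hK, ?_⟩
        by_cases horb : ∃ j : ℕ, K = cj (x ^ j) L
        · exfalso
          obtain ⟨j, hj⟩ := horb
          apply hcon
          have h2 : cj ((x * s) ^ j) L = K := by
            rw [pow_eq, cj_mul, hj]
            congr 1
            ext y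
            rw [mem_cj]
            have hw := w_mem (V := V) (x := x) hsV j
            constructor
            · intro hy
              have := hL.norm _ hw _ hy
              have h3 : w x s j * ((w x s j)⁻¹ * y * w x s j) * (w x s j)⁻¹ = y := by group
              rwa [h3] at this
            · intro hy
              have := hL.norm _ (inv_mem hw) _ hy
              rwa [inv_inv] at this
          have h3 := hKQ.conj ((x * s) ^ j)⁻¹
          have h4 : cj ((x * s) ^ j)⁻¹ K = L := by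
            rw [← h2, ← cj_mul, inv_mul_cancel, cj_one]
          have h5 : ((x * s) ^ j)⁻¹ * (x * s) * (((x * s) ^ j)⁻¹)⁻¹ = x * s := by
            have : Commute (x * (s : G)) ((x * s) ^ j) := Commute.self_pow _ _
            rw [inv_inv, mul_assoc, this.eq]
            group
          rwa [h4, h5] at h3
        · push Not at horb
          obtain ⟨θ, hθ⟩ := hKQ
          refine ⟨θ, fun l => ?_⟩
          rw [← hθ l, pow_eq]
          have h2 := w_comm_far (x := x) hL s.2 m K hK horb _ (θ l).2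
          have h3 : x ^ m * w x s m * (θ l : G) * (x ^ m * w x s m)⁻¹ =
              x ^ m * (w x s m * (θ l : G)) * (w x s m)⁻¹ * (x ^ m)⁻¹ := by group
          rw [h3, h2]
          group
    have hlt := Set.ncard_lt_ncard hsub (Set.toFinite _)
    have h2 : Set.ncard {K : Subgroup G | Fac V K ∧ Q L m α K (x * s)} = num V L m α (x * s) := rfl
    have h3 : Set.ncard {K : Subgroup G | Fac V K ∧ Q L m α K x} = num V L m α x := rfl
    rw [h2, h3, h1] at hlt
    exact lt_irrefl _ hlt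
  obtain ⟨θ, hθ⟩ := hQ
  rw [isConj_iff]
  refine ⟨θ, ?_⟩
  rw [mul_inv_eq_iff_eq_mul]
  ext l
  have h1 := hθ l
  show (θ (α l) : G) = α (MulAut.conj s (θ l))
  rw [← h1, pow_eq, hα, coe_autOf]
  obtain ⟨i, hi⟩ : ∃ i, m = i + 1 := ⟨m - 1, by omega⟩
  have h2 : w x (s : G) m = x⁻¹ * w x s i * x * s := by rw [hi, w]
  have h3 : ∀ y ∈ L, x⁻¹ * w x s i * x * y = y * (x⁻¹ * w x s i * x) := by
    intro y hy
    have h4 : x * y * x⁻¹ ∈ cj (x ^ 1) L := by rw [pow_one]; exact conj_mem_cj hy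
    have h5 := w_comm_near (x := x) hL s.2 hmin i 1 le_rfl (by omega) _ h4
    calc x⁻¹ * w x s i * x * y = x⁻¹ * (w x s i * (x * y * x⁻¹)) * x := by group
      _ = y * (x⁻¹ * w x s i * x) := by rw [h5]; group
  have h6 : ((MulAut.conj s (θ l) : L) : G) = s * θ l * (s : G)⁻¹ := rfl
  rw [h6, h2]
  set u := x⁻¹ * w x s i * x with hu
  have h7 := h3 _ (mul_mem (mul_mem s.2 (θ l).2) (inv_mem s.2))
  calc x ^ m * (u * s) * (θ l : G) * (x ^ m * (u * s))⁻¹
      = x ^ m * (u * (s * θ l * (s : G)⁻¹)) * u⁻¹ * (x ^ m)⁻¹ := by group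
    _ = x ^ m * (s * θ l * (s : G)⁻¹) * (x ^ m)⁻¹ := by rw [h7]; group

end Cfsg.Agent.H498.CosetRed
end

-- part: H498/SplitOpp
section
/-!
# Opposite Sylow subgroups of a group with a split (B, N)-pair

* `opp_of_hasSplit` : in a finite group with a split (B, N)-pair of characteristic `p` the pairs of Sylow
  `p`-subgroups with trivial intersection are all conjugate (and there are some);
* `free_of_opp` : such a group has no automorphism `α` with all the elements of `α Inn` conjugate to `α`.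
-/

set_option autoImplicit false

namespace Cfsg.Agent.H498.SplitOpp

open Cfsg Cfsg.Agent.Tits.Core Cfsg.Agent.Tits.Core.Bldg Cfsg.Agent.Tits.OfBN Cfsg.Agent.FixBN
  Cfsg.Agent.FixBN.OfBN Cfsg.Agent.Schreier.BNSch Cfsg.Agent.Tits.OppRes Cfsg.Agent.LieExceptional.BNPairCore

/-- The pairs of Sylow `p`-subgroups with trivial intersection are all conjugate, and there is one. -/
def OppTrans (p : ℕ) (K : Type*) [Group K] : Prop :=
  ∃ P Q : Sylow p K, (P : Subgroup K) ⊓ Q = ⊥ ∧ (P : Subgroup K) ≠ ⊥ ∧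
    ∀ P' Q' : Sylow p K, (P' : Subgroup K) ⊓ Q' = ⊥ → ∃ g : K, g • P = P' ∧ g • Q = Q'

section

variable {K : Type*} [Group K] {P : Cfsg.BNPair K} {p : ℕ} {U : Subgroup K}
variable [hN : ((P.B ⊓ P.N).subgroupOf P.N).Normal]
variable {I : Type*} {M : CoxeterMatrix I} (e : I ≃ P.S) (cs : CoxeterSystem M (WP P))
  (hcs : ∀ i, cs.simple i = QuotientGroup.mk (⟨(e i : K), P.subset (e i).2⟩ : P.N))
variable (S : Split P p U)

include S

omit hN S in
theorem card_UU (x y : K ⧸ P.B) : Nat.card (UU P U x) = Nat.card (UU P U y) := by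
  have h : ∀ z : K ⧸ P.B, Nat.card (UU P U z) = Nat.card U := fun z =>
    Nat.card_congr (U.equivMapOfInjective (MulAut.conj z.out).toMonoidHom (MulAut.conj z.out).injective).symm.toEquiv
  rw [h, h]

/-- chambers whose Sylow subgroups intersect trivially are opposite -/
theorem opp_of_inf [Finite K] [hp : Fact p.Prime] {x y : K ⧸ P.B} (h : UU P U x ⊓ UU P U y = ⊥) :
    (bldg P e cs hcs).Opp x y := by
  have hI : Finite I := OfBN.finite_I e
  have hC : Cox cs := inferInstance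
  set Δ := bldg P e cs hcs with hΔ
  have hiso : ∀ (g : K) (a b : K ⧸ P.B), Δ.δ (g • a) (g • b) = Δ.δ a b := fun g a b => dist_smul P g a b
  show Δ.δ x y = wJ cs Set.univ
  by_contra hne
  have hex : ∃ i, cs.length (Δ.δ x y) < cs.length (Δ.δ x y * cs.simple i) := by
    by_contra hcon
    push Not at hcon
    apply hne
    refine hC.eq_wJ_of_descents (by rw [WJ_univ]; trivial) fun j _ => ?_
    have h1 := hcon j
    have h2 := cs.length_mul_simple_ne (Δ.δ x y) j
    omega
  obtain ⟨i, hi⟩ := hex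
  obtain ⟨z, z', hzz, hz, hz'⟩ := thick P e cs hcs y i
  have h1 : Δ.δ x z = Δ.δ x y * cs.simple i := Δ.step_lt x y z i hz hi
  have h2 : Δ.δ x z' = Δ.δ x y * cs.simple i := Δ.step_lt x y z' i hz' hi
  obtain ⟨u, hu, huz⟩ := OfBN.trans S (x := x) (y := z) (z := z') (by
    show Δ.δ x z = Δ.δ x z'
    rw [h1, h2])
  have hux : u • x = x := OfBN.fix S hu
  have huy : u • y = y := by
    refine Tits.Rigid.eq_of_short (Δ := Δ) (x := x) (w := Δ.δ x y) (j := i) ?_ rfl hi ?_
    · conv_lhs => rw [← hux]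
      exact hiso u x y
    · have h3 : Δ.δ (u • y) z' = cs.simple i := by
        rw [← huz, hiso]
        exact hz
      have h4 : z' ∈ Δ.Pan i (u • y) := Or.inr h3
      have h5 : z' ∈ Δ.Pan i y := Or.inr hz'
      exact Tits.Rigid.mem_Pan_Res (Δ.mem_Pan_trans h4 (Δ.mem_Pan_symm h5))
  have huU : u ∈ UU P U y := by
    have h3 : IsPGroup p (Subgroup.zpowers u) := by
      refine (OfBN.isP S x).to_le ?_
      rw [Subgroup.zpowers_le]
      exact hu
    refine OfBN.max S y (Subgroup.zpowers u) h3 ?_ (Subgroup.mem_zpowers u)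
    intro v hv
    obtain ⟨k, rfl⟩ := Subgroup.mem_zpowers_iff.1 hv
    have h4 : u ∈ MulAction.stabilizer K y := huy
    exact zpow_mem h4 k
  have hu1 : u = 1 := by
    have h3 : u ∈ UU P U x ⊓ UU P U y := ⟨hu, huU⟩
    rwa [h, Subgroup.mem_bot] at h3
  apply hzz
  rw [← huz, hu1, one_smul]

/-- the Sylow subgroup of a chamber -/
noncomputable def syl [Finite K] [hp : Fact p.Prime] (x : K ⧸ P.B) : Sylow p K where
  toSubgroup := UU P U x
  isPGroup' := OfBN.isP S x
  is_maximal' := by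
    intro Q hQ hle
    obtain ⟨y, hy⟩ := OfBN.exists_fix S Q hQ
    have h1 := OfBN.max S y Q hQ hy
    have h2 : UU P U x = UU P U y :=
      Subgroup.eq_of_le_of_card_ge (hle.trans h1) (le_of_eq (card_UU y x))
    exact le_antisymm (h1.trans h2.symm.le) hle

theorem exists_syl [Finite K] [hp : Fact p.Prime] (Q : Sylow p K) : ∃ x : K ⧸ P.B, syl S x = Q := by
  obtain ⟨y, hy⟩ := OfBN.exists_fix S Q Q.isPGroup'
  have h1 := OfBN.max S y Q Q.isPGroup' hy
  refine ⟨y, ?_⟩
  apply Sylow.ext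
  exact Q.is_maximal' (OfBN.isP S y) h1

theorem smul_syl [Finite K] [hp : Fact p.Prime] (g : K) (x : K ⧸ P.B) : g • syl S x = syl S (g • x) := by
  apply Sylow.ext
  rw [Sylow.coe_subgroup_smul]
  ext u
  rw [Subgroup.mem_pointwise_smul_iff_inv_smul_mem]
  have h1 := smul_UU S (x := x) (u := g⁻¹ * u * g) (g := g)
  have h2 : g * (g⁻¹ * u * g) * g⁻¹ = u := by group
  rw [h2] at h1
  have h3 : (MulAut.conj g)⁻¹ • u = g⁻¹ * u * g := by
    rw [← map_inv]
    show g⁻¹ * u * g⁻¹⁻¹ = _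
    rw [inv_inv]
  rw [h3]
  exact h1.symm

end

/-- **Opposite Sylow subgroups of a group with a split (B, N)-pair.** -/
theorem opp_of_hasSplit {K : Type*} [Group K] [Finite K] {p : ℕ} [hp : Fact p.Prime] (h : HasSplit p K) :
    OppTrans p K := by
  obtain ⟨P, U, hne, S⟩ := h
  have hN : ((P.B ⊓ P.N).subgroupOf P.N).Normal := normal_subgroupOf P
  obtain ⟨M, cs, hcs⟩ := S0320.result P
  have hI : Finite P.S := OfBN.finite_I (Equiv.refl P.S)
  set Δ := bldg P (Equiv.refl P.S) cs hcs with hΔ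
  obtain ⟨y, hy⟩ := exists_delta Δ (QuotientGroup.mk 1 : K ⧸ P.B) (w0 cs)
  have hinf : ∀ a b : K ⧸ P.B, Δ.Opp a b → UU P U a ⊓ UU P U b = ⊥ := by
    intro a b hab
    rw [eq_bot_iff]
    rintro u ⟨hu1, hu2⟩
    exact Subgroup.mem_bot.2 (OfBN.free (Equiv.refl P.S) cs hcs S hab hu1 (OfBN.fix S hu2))
  refine ⟨syl S (QuotientGroup.mk 1), syl S y, hinf _ _ hy, ?_, ?_⟩
  · obtain ⟨s, hs⟩ := hne
    obtain ⟨V, hV⟩ := S.node s hs
    obtain ⟨u, hu, huV⟩ := hV.ne
    intro h1
    apply huV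
    have h2 : u ∈ UU P U (QuotientGroup.mk (1 : K)) := by
      rw [OfBN.mem_UU S]
      simpa using hu
    have h3 : u ∈ ((syl S (QuotientGroup.mk 1 : K ⧸ P.B) : Sylow p K) : Subgroup K) := h2
    rw [h1, Subgroup.mem_bot] at h3
    rw [h3]
    exact one_mem _
  · intro P' Q' hPQ
    obtain ⟨a, rfl⟩ := exists_syl S P'
    obtain ⟨b, rfl⟩ := exists_syl S Q'
    have h1 : Δ.Opp a b := opp_of_inf (Equiv.refl P.S) cs hcs S hPQ
    obtain ⟨g, hg1, hg2⟩ := Tits.OfBN.trans P (QuotientGroup.mk 1) y a b (by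
      show Δ.δ _ y = Δ.δ a b
      rw [hy, h1])
    exact ⟨g, by rw [smul_syl, hg1], by rw [smul_syl, hg2]⟩

/-- **Groups with `OppTrans` have no coset of `Inn` inside a class of `Aut`.** -/
theorem free_of_opp {K : Type*} [Group K] [Finite K] {p : ℕ} [hp : Fact p.Prime] (h : OppTrans p K) :
    ¬ ∃ α : MulAut K, ∀ s : K, IsConj α (α * MulAut.conj s) := by
  rintro ⟨α, hα⟩
  obtain ⟨P, Q, hPQ, hP, htr⟩ := h
  have hcoset : ∀ n ∈ (MulAut.conj : K →* MulAut K).range, IsConj α (α * n) := by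
    rintro _ ⟨s, rfl⟩
    exact hα s
  -- the action on the Sylow subgroups
  have htr1 : ∀ a b : Sylow p K, ∃ n ∈ (MulAut.conj : K →* MulAut K).range, n • a = b := by
    intro a b
    obtain ⟨g, hg⟩ := MulAction.exists_smul_eq K a b
    exact ⟨MulAut.conj g, ⟨g, rfl⟩, hg⟩
  obtain ⟨A, hA1, hA2⟩ := CosetFix.existsUnique_fixed (Ω := Sylow p K) _ htr1 hcoset
  -- the action on the opposite pairs
  let Ω : SubMulAction (MulAut K) (Sylow p K × Sylow p K) :=
    { carrier := {t | (t.1 : Subgroup K) ⊓ (t.2 : Subgroup K) = ⊥}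
      smul_mem' := by
        intro c t ht
        show ((c • t.1 : Sylow p K) : Subgroup K) ⊓ ((c • t.2 : Sylow p K) : Subgroup K) = ⊥
        have ht' : (t.1 : Subgroup K) ⊓ (t.2 : Subgroup K) = ⊥ := ht
        rw [Sylow.pointwise_smul_def, Sylow.pointwise_smul_def]
        rw [← Subgroup.smul_inf, ht', Subgroup.smul_bot] }
  have hne : Nonempty Ω := ⟨⟨(P, Q), hPQ⟩⟩
  have htr2 : ∀ a b : Ω, ∃ n ∈ (MulAut.conj : K →* MulAut K).range, n • a = b := by
    have key : ∀ a : Ω, ∃ g : K, MulAut.conj g • (⟨(P, Q), hPQ⟩ : Ω) = a := by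
      intro a
      obtain ⟨g, hg1, hg2⟩ := htr a.1.1 a.1.2 a.2
      refine ⟨g, Subtype.ext (Prod.ext ?_ ?_)⟩
      · exact hg1
      · exact hg2
    intro a b
    obtain ⟨g, hg⟩ := key a
    obtain ⟨k, hk⟩ := key b
    refine ⟨MulAut.conj (k * g⁻¹), ⟨_, rfl⟩, ?_⟩
    rw [← hg, ← hk, smul_smul, ← map_mul, inv_mul_cancel_right]
  obtain ⟨ω, hω, -⟩ := CosetFix.existsUnique_fixed (Ω := Ω) _ htr2 hcoset
  have h1 : α • ω.1.1 = ω.1.1 := congrArg (fun t : Ω => t.1.1) hω
  have h2 : α • ω.1.2 = ω.1.2 := congrArg (fun t : Ω => t.1.2) hω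
  have h3 := hA2 _ h1
  have h4 := hA2 _ h2
  have h5 : ((ω.1.1 : Sylow p K) : Subgroup K) ⊓ (ω.1.2 : Subgroup K) = ⊥ := ω.2
  rw [h3, h4, inf_idem] at h5
  apply hP
  have h6 : Nat.card P = Nat.card A := by
    exact Nat.card_congr (Sylow.equiv P A).toEquiv
  have h7 : Nat.card A = 1 := by
    show Nat.card (A : Subgroup K) = 1
    rw [h5, Subgroup.card_bot]
  rw [h7] at h6
  exact Subgroup.eq_bot_of_card_eq _ h6

end Cfsg.Agent.H498.SplitOpp
end

-- part: H498/LieFree
section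
/-!
# Simple groups of Lie type have a split (B, N)-pair in their characteristic
-/

set_option autoImplicit false

namespace Cfsg.Agent.H498.LieFree

open Cfsg Cfsg.Agent.FixBN Cfsg.Agent.Omega.ML.LieRow

/-- Every finite simple group of Lie type in characteristic `p` has a split (B,N)-pair of characteristic `p`. -/
theorem hasSplit_of_lieChar {p : ℕ} (hp : p.Prime) {G : Type*} [Group G] [Finite G] [IsSimpleGroup G]
    (h : IsLieTypeChar p G) : HasSplit p G := by
  rcases Nodes.RGDLie.hasRGD_of_lie h with h1 | ⟨rfl, -⟩ | ⟨rfl, -⟩ | ⟨rfl, h1⟩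
  · exact hasSplit_of_rgd hp h1
  · exact hasSplit_of_lie h
  · exact hasSplit_of_lie h
  · exact ReeSplit.hasSplit_of_isoRee h1

/-- **The pairs of Sylow `p`-subgroups with trivial intersection of a group of Lie type in characteristic `p`.** -/
theorem oppTrans_of_lieChar {p : ℕ} (hp : p.Prime) {G : Type*} [Group G] [Finite G] [IsSimpleGroup G]
    (h : IsLieTypeChar p G) : SplitOpp.OppTrans p G := by
  have : Fact p.Prime := ⟨hp⟩
  exact SplitOpp.opp_of_hasSplit (hasSplit_of_lieChar hp h)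

end Cfsg.Agent.H498.LieFree
end

private theorem dce_fc27f126566b : _root_.True := by
  try have : _root_.True := by simp only [_root_.Cfsg.Agent.H498.CosetRed.w.eq_2]
  try have : _root_.True := by simp only [_root_.Cfsg.Agent.H498.CosetRed.w.eq_1]
  try have : _root_.True := by simp only [_root_.Cfsg.Agent.H498.CosetRed.w.eq_def]
  exact _root_.True.intro
end
end
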