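import Cfsg.Agent.Blocks.Osima
import Cfsg.Agent.Blocks.LocalRing
import Cfsg.Agent.Characters.DefectZero
import Cfsg.Agent.FastGrp
import Cfsg.Agent.Prune
set_option linter.all false
prune_inst 0x7f00000000000000000000000000000000000000000000000000000000000000000000000000000000000000000000000000000000000000000000000000000000000000000000000000000000000000003fffffffffffffffffffffffffffbeffbdffffffff
open scoped Cfsg.Agent.FastGrp

/-!
# Characters of `p`-defect zero of groups with a split (B,N)-pair: `dim V^U = 1`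

`G` a finite group, `U` a `p`-subgroup, `T` an abelian subgroup normalising `U`, `n₀ ∈ G` with
`g ∈ U n₀ T U` or `U ∩ gUg⁻¹ ≠ 1` for every `g`.  If `ρ` is an irreducible representation with some `g₀` such that
`#G χ(g₀) / χ(1)` is a unit of the local ring at `M` (`p`-defect zero), the space of `U`-fixed vectors is a line
`ℂ x`, and the normalised double coset operators act on it by local integers, the one of `n₀` by a local unit.
-/

set_option autoImplicit false

namespace Cfsg.Agent.H996.DefectZero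

open Cfsg Cfsg.Agent.Blocks.LocalRing

universe u v

variable {G : Type u} [Group G] [Finite G] {V : Type v} [AddCommGroup V] [Module ℂ V] [FiniteDimensional ℂ V]

omit [Finite G] in
/-- the sum of the conjugates of `g` acts as the scalar `#G χ(g) / χ(1)` -/
theorem sum_conj [Fintype G] (ρ : Representation ℂ G V) (hρ : ρ.IsIrreducible) (g : G) :
    (∑ h : G, ρ (h * g * h⁻¹)) =
      ((Nat.card G : ℂ) * ρ.character g / (Module.finrank ℂ V : ℂ)) • (LinearMap.id : V →ₗ[ℂ] V) := by
  classical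
  obtain ⟨c, hc⟩ := OddOrderCharacters.ClassSum.schur_scalar ρ hρ (∑ h : G, ρ (h * g * h⁻¹)) (by
    intro k
    change (∑ h : G, ρ (h * g * h⁻¹)) * ρ k = ρ k * (∑ h : G, ρ (h * g * h⁻¹))
    rw [Finset.sum_mul, Finset.mul_sum]
    refine Fintype.sum_equiv (Equiv.mulLeft k⁻¹) _ _ fun h => ?_
    rw [← map_mul, ← map_mul]
    congr 1
    simp only [Equiv.coe_mulLeft]
    group)
  have hne : (Module.finrank ℂ V : ℂ) ≠ 0 := by
    have : Nontrivial V := Characters.DefectZero.nontrivial_of_irreducible ρ hρ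
    exact_mod_cast (Module.finrank_pos (R := ℂ) (M := V)).ne'
  have htr := congrArg (LinearMap.trace ℂ V) hc
  rw [map_sum, map_smul, LinearMap.trace_id, smul_eq_mul] at htr
  have h1 : ∀ h : G, LinearMap.trace ℂ V (ρ (h * g * h⁻¹)) = ρ.character g := fun h => by
    change ρ.character (h * g * h⁻¹) = _
    exact ρ.char_conj g h
  simp only [h1, Finset.sum_const, Finset.card_univ, nsmul_eq_mul] at htr
  rw [hc]
  congr 1
  rw [eq_div_iff hne, ← htr, Nat.card_eq_fintype_card]

omit [Finite G] [FiniteDimensional ℂ V] in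
/-- a nonzero vector spans an irreducible representation -/
theorem span_eq_top (ρ : Representation ℂ G V) (hρ : ρ.IsIrreducible) {x : V} (hx : x ≠ 0) :
    Submodule.span ℂ (Set.range fun g => ρ g x) = ⊤ := by
  let W : Subrepresentation ρ :=
    { toSubmodule := Submodule.span ℂ (Set.range fun g => ρ g x)
      apply_mem_toSubmodule := by
        intro g v hv
        induction hv using Submodule.span_induction with
        | mem v hv =>
          obtain ⟨h, rfl⟩ := hv
          refine Submodule.subset_span ⟨g * h, ?_⟩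
          simp only [map_mul]
          rfl
        | zero => rw [map_zero]; exact zero_mem _
        | add v w _ _ h1 h2 => rw [map_add]; exact add_mem h1 h2
        | smul c v _ h => rw [map_smul]; exact Submodule.smul_mem _ _ h }
  have h1 := hρ.eq_bot_or_eq_top W
  rcases h1 with h | h
  · exfalso
    apply hx
    have h2 : x ∈ W.toSubmodule := Submodule.subset_span ⟨1, by simp⟩
    rw [h] at h2
    exact (Submodule.mem_bot ℂ).1 h2
  · have := congrArg Subrepresentation.toSubmodule h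
    exact this

/-- summation over the left cosets of a subgroup -/
theorem sum_out {A : Type*} [AddCommMonoid A] {H : Type*} [Group H] [Fintype H] (R : Subgroup H) [Fintype R]
    [Fintype (H ⧸ R)] (f : H → A) : ∑ h, f h = ∑ q : H ⧸ R, ∑ r : R, f (q.out * r) := by
  classical
  rw [← Fintype.sum_prod_type']
  symm
  refine Fintype.sum_bijective (fun z : (H ⧸ R) × R => z.1.out * (z.2 : H)) ⟨?_, ?_⟩ _ _ fun z => rfl
  · rintro ⟨q, r⟩ ⟨q', r'⟩ h
    change q.out * (r : H) = q'.out * (r' : H) at h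
    have h1 : q = q' := by
      have h2 : (QuotientGroup.mk (q.out * (r : H)) : H ⧸ R) = QuotientGroup.mk (q'.out * (r' : H)) := by rw [h]
      rw [QuotientGroup.mk_mul_of_mem _ r.2, QuotientGroup.mk_mul_of_mem _ r'.2] at h2
      rwa [QuotientGroup.out_eq', QuotientGroup.out_eq'] at h2
    subst h1
    rw [mul_left_cancel (h : q.out * (r : H) = q.out * (r' : H)) |> Subtype.ext]
  · intro h
    refine ⟨(QuotientGroup.mk h, ⟨(QuotientGroup.mk h : H ⧸ R).out⁻¹ * h, ?_⟩), ?_⟩
    · exact QuotientGroup.eq.1 (QuotientGroup.out_eq' _)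
    · simp

/-- summation over a subgroup `U` in two steps -/
theorem sum_eq_quot {A : Type*} [AddCommMonoid A] {H : Type*} [Group H] [Fintype H] (R : Subgroup H)
    [Fintype (H ⧸ R)] (f : H → A) (hf : ∀ (h : H) (r : H), r ∈ R → f (h * r) = f h) :
    ∑ h, f h = (Nat.card R) • ∑ q : H ⧸ R, f q.out := by
  classical
  have : Fintype R := Fintype.ofFinite R
  rw [← Fintype.sum_equiv (Subgroup.groupEquivQuotientProdSubgroup (s := R)).symm
    (fun z => f ((Subgroup.groupEquivQuotientProdSubgroup (s := R)).symm z)) f (fun z => rfl)]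
  rw [Fintype.sum_prod_type, Finset.smul_sum]
  refine Finset.sum_congr rfl fun q _ => ?_
  have h1 : ∀ r : R, f ((Subgroup.groupEquivQuotientProdSubgroup (s := R)).symm (q, r)) = f q.out := by
    intro r
    have h2 : (QuotientGroup.mk ((Subgroup.groupEquivQuotientProdSubgroup (s := R)).symm (q, r)) : H ⧸ R) = q := by
      have := (Subgroup.groupEquivQuotientProdSubgroup (s := R)).apply_symm_apply (q, r)
      have h3 := congrArg Prod.fst this
      exact h3
    have h3 : (QuotientGroup.mk (q.out : H) : H ⧸ R) = q := Quotient.out_eq' q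
    obtain ⟨r', hr', h4⟩ : ∃ r' ∈ R, (Subgroup.groupEquivQuotientProdSubgroup (s := R)).symm (q, r) = q.out * r' := by
      have h5 := QuotientGroup.eq.1 (h3.trans h2.symm)
      exact ⟨_, h5, by group⟩
    rw [h4, hf _ _ hr']
  rw [Finset.sum_congr rfl fun r _ => h1 r, Finset.sum_const, Finset.card_univ, Nat.card_eq_fintype_card]

/-- the sum of the elements of `U`, applied to a vector -/
noncomputable def sig (ρ : Representation ℂ G V) (U : Subgroup G) (v : V) : V :=
  ∑ᶠ u : U, ρ (u : G) v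

omit [Finite G] [FiniteDimensional ℂ V] in
theorem sig_eq (ρ : Representation ℂ G V) (U : Subgroup G) [Fintype U] (v : V) :
    sig ρ U v = ∑ u : U, ρ (u : G) v := finsum_eq_sum_of_fintype _

omit [FiniteDimensional ℂ V] in
theorem apply_sig (ρ : Representation ℂ G V) (U : Subgroup G) {u : G} (hu : u ∈ U) (v : V) :
    ρ u (sig ρ U v) = sig ρ U v := by
  have : Fintype U := Fintype.ofFinite U
  rw [sig_eq, map_sum]
  refine Fintype.sum_equiv (Equiv.mulLeft (⟨u, hu⟩ : U)) _ _ fun w => ?_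
  simp only [Equiv.coe_mulLeft, Subgroup.coe_mul, map_mul]
  rfl

omit [FiniteDimensional ℂ V] in
theorem sig_apply (ρ : Representation ℂ G V) (U : Subgroup G) {u : G} (hu : u ∈ U) (v : V) :
    sig ρ U (ρ u v) = sig ρ U v := by
  have : Fintype U := Fintype.ofFinite U
  rw [sig_eq, sig_eq]
  refine Fintype.sum_equiv (Equiv.mulRight (⟨u, hu⟩ : U)) _ _ fun w => ?_
  simp only [Equiv.coe_mulRight, Subgroup.coe_mul, map_mul]
  rfl

omit [FiniteDimensional ℂ V] in
theorem sig_fixed (ρ : Representation ℂ G V) (U : Subgroup G) {v : V} (hv : ∀ u ∈ U, ρ u v = v) :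
    sig ρ U v = (Nat.card U : ℂ) • v := by
  have : Fintype U := Fintype.ofFinite U
  rw [sig_eq, Finset.sum_congr rfl fun (u : U) _ => hv u u.2, Finset.sum_const, Finset.card_univ,
    Nat.card_eq_fintype_card, Nat.cast_smul_eq_nsmul]

omit [FiniteDimensional ℂ V] in
theorem sig_smul (ρ : Representation ℂ G V) (U : Subgroup G) (c : ℂ) (v : V) :
    sig ρ U (c • v) = c • sig ρ U v := by
  have : Fintype U := Fintype.ofFinite U
  rw [sig_eq, sig_eq, Finset.smul_sum]
  exact Finset.sum_congr rfl fun u _ => map_smul _ _ _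

omit [FiniteDimensional ℂ V] in
theorem sig_add (ρ : Representation ℂ G V) (U : Subgroup G) (v w : V) :
    sig ρ U (v + w) = sig ρ U v + sig ρ U w := by
  have : Fintype U := Fintype.ofFinite U
  rw [sig_eq, sig_eq, sig_eq, ← Finset.sum_add_distrib]
  exact Finset.sum_congr rfl fun u _ => map_add _ _ _

omit [FiniteDimensional ℂ V] in
theorem sig_sum (ρ : Representation ℂ G V) (U : Subgroup G) {ι : Type*} (s : Finset ι) (f : ι → V) :
    sig ρ U (∑ i ∈ s, f i) = ∑ i ∈ s, sig ρ U (f i) := by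
  classical
  induction s using Finset.induction_on with
  | empty =>
    rw [Finset.sum_empty, Finset.sum_empty]
    have := sig_smul ρ U 0 (0 : V)
    rwa [zero_smul, zero_smul] at this
  | insert a s ha ih => rw [Finset.sum_insert ha, Finset.sum_insert ha, sig_add, ih]

/-- `U ∩ g U g⁻¹`, as a subgroup of `U` -/
def Rg (U : Subgroup G) (g : G) : Subgroup U where
  carrier := {u | g⁻¹ * (u : G) * g ∈ U}
  mul_mem' := fun {a b} ha hb => by
    have h : g⁻¹ * ((a : G) * b) * g = (g⁻¹ * (a : G) * g) * (g⁻¹ * (b : G) * g) := by group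
    change g⁻¹ * ((a : G) * b) * g ∈ U
    rw [h]
    exact U.mul_mem ha hb
  one_mem' := by
    change g⁻¹ * 1 * g ∈ U
    rw [mul_one, inv_mul_cancel]
    exact U.one_mem
  inv_mem' := fun {a} ha => by
    have h : g⁻¹ * (a : G)⁻¹ * g = (g⁻¹ * (a : G) * g)⁻¹ := by group
    change g⁻¹ * (a : G)⁻¹ * g ∈ U
    rw [h]
    exact U.inv_mem ha

omit [Finite G] in
theorem mem_Rg {U : Subgroup G} {g : G} {u : U} : u ∈ Rg U g ↔ g⁻¹ * (u : G) * g ∈ U := Iff.rfl

omit [FiniteDimensional ℂ V] in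
/-- the coset sum -/
theorem sig_eq_smul (ρ : Representation ℂ G V) (U : Subgroup G) (g : G) [Fintype (U ⧸ Rg U g)] {x : V}
    (hx : ∀ u ∈ U, ρ u x = x) :
    sig ρ U (ρ g x) = (Nat.card (Rg U g)) • ∑ q : U ⧸ Rg U g, ρ ((q.out : U) : G) (ρ g x) := by
  have : Fintype U := Fintype.ofFinite U
  rw [sig_eq]
  refine sum_eq_quot (Rg U g) (fun u : U => ρ (u : G) (ρ g x)) fun h r hr => ?_
  have h1 : ρ ((r : U) : G) (ρ g x) = ρ g x := by
    conv_rhs => rw [← hx _ (mem_Rg.1 hr)]
    rw [← Module.End.mul_apply, ← Module.End.mul_apply, ← map_mul, ← map_mul]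
    congr 2
    group
  change ρ (((h * r : U)) : G) (ρ g x) = _
  rw [Subgroup.coe_mul, map_mul, Module.End.mul_apply, h1]

/-- a commuting family of operators has a common eigenvector -/
theorem exists_common (T : Set (V →ₗ[ℂ] V)) (hT : ∀ s ∈ T, ∀ t ∈ T, s * t = t * s) (W : Submodule ℂ V)
    (hW : W ≠ ⊥) (hinv : ∀ t ∈ T, ∀ w ∈ W, t w ∈ W) : ∃ x ∈ W, x ≠ 0 ∧ ∀ t ∈ T, ∃ c : ℂ, t x = c • x := by
  classical
  obtain ⟨n, hn⟩ : ∃ n, Module.finrank ℂ W = n := ⟨_, rfl⟩
  induction n using Nat.strong_induction_on generalizing W with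
  | _ n ih =>
    by_cases hall : ∀ t ∈ T, ∃ c : ℂ, ∀ w ∈ W, t w = c • w
    · obtain ⟨x, hx, hx0⟩ := Submodule.exists_mem_ne_zero_of_ne_bot hW
      exact ⟨x, hx, hx0, fun t ht => by
        obtain ⟨c, hc⟩ := hall t ht
        exact ⟨c, hc x hx⟩⟩
    · push Not at hall
      obtain ⟨t, ht, hc⟩ := hall
      have : Nontrivial W := Submodule.nontrivial_iff_ne_bot.2 hW
      obtain ⟨μ, hμ⟩ := Module.End.exists_eigenvalue (t.restrict (hinv t ht))
      obtain ⟨w, hw⟩ := hμ.exists_hasEigenvector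
      let W' : Submodule ℂ V := W ⊓ Module.End.eigenspace t μ
      have hw1 : (w : V) ∈ W' := by
        refine ⟨w.2, Module.End.mem_eigenspace_iff.2 ?_⟩
        have := congrArg Subtype.val hw.apply_eq_smul
        simpa using this
      have hw2 : (w : V) ≠ 0 := fun h => hw.2 (Subtype.ext h)
      have hlt : W' < W := by
        refine lt_of_le_of_ne inf_le_left fun h => ?_
        obtain ⟨v, hv, hv2⟩ := hc μ
        apply hv2
        have h3 : v ∈ W' := by rw [h]; exact hv
        exact Module.End.mem_eigenspace_iff.1 h3.2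
      obtain ⟨x, hx, h1, h2⟩ := ih (Module.finrank ℂ W') (by rw [← hn]; exact Submodule.finrank_lt_finrank_of_lt hlt) W'
        (fun h => hw2 (by rw [h] at hw1; exact (Submodule.mem_bot ℂ).1 hw1)) (by
          rintro s hs v ⟨hv1, hv2⟩
          refine ⟨hinv s hs v hv1, Module.End.mem_eigenspace_iff.2 ?_⟩
          rw [← Module.End.mul_apply, hT t ht s hs, Module.End.mul_apply, Module.End.mem_eigenspace_iff.1 hv2, map_smul])
        rfl
      exact ⟨x, hx.1, h1, h2⟩

section lattice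

variable {p : ℕ} {M : Ideal AlgInt}

theorem locIdeal_le_jacobson (hM : IsPModular p M) : locIdeal hM ≤ Ideal.jacobson (⊥ : Ideal (locRing hM)) := by
  have := isLocalRing hM
  rw [IsLocalRing.jacobson_eq_maximalIdeal _ bot_ne_top]
  intro x hx
  rw [IsLocalRing.mem_maximalIdeal, mem_nonunits_iff, isUnit_locRing_iff hM]
  exact fun h => h hx

omit [Finite G] [FiniteDimensional ℂ V] in
/-- the lattice spanned by the orbit of `x` -/
def Lat (hM : IsPModular p M) (ρ : Representation ℂ G V) (x : V) : Submodule (locRing hM) V :=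
  Submodule.span (locRing hM) (Set.range fun g => ρ g x)

omit [Finite G] [FiniteDimensional ℂ V] in
theorem apply_mem_Lat (hM : IsPModular p M) (ρ : Representation ℂ G V) (x : V) (g : G) {v : V}
    (hv : v ∈ Lat hM ρ x) : ρ g v ∈ Lat hM ρ x := by
  unfold Lat at hv ⊢
  induction hv using Submodule.span_induction with
  | mem v hv =>
    obtain ⟨h, rfl⟩ := hv
    refine Submodule.subset_span ⟨g * h, ?_⟩
    simp only [map_mul]
    rfl
  | zero => rw [map_zero]; exact zero_mem _
  | add v w _ _ h1 h2 => rw [map_add]; exact add_mem h1 h2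
  | smul c v _ h =>
    have h1 : ρ g (c • v) = c • ρ g v := (ρ g).map_smul (c : ℂ) v
    rw [h1]
    exact Submodule.smul_mem _ _ h

/-- the `U`-fixed vectors of the lattice -/
def LatU (hM : IsPModular p M) (ρ : Representation ℂ G V) (U : Subgroup G) (x : V) : Submodule (locRing hM) V where
  carrier := {v | v ∈ Lat hM ρ x ∧ ∀ u ∈ U, ρ u v = v}
  add_mem' := fun {a b} ha hb => ⟨add_mem ha.1 hb.1, fun u hu => by rw [map_add, ha.2 u hu, hb.2 u hu]⟩
  zero_mem' := ⟨zero_mem _, fun u hu => map_zero _⟩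
  smul_mem' := fun c v hv => ⟨Submodule.smul_mem _ _ hv.1, fun u hu => by
    have h1 : ρ u (c • v) = c • ρ u v := (ρ u).map_smul (c : ℂ) v
    rw [h1, hv.2 u hu]⟩

omit [FiniteDimensional ℂ V] in
theorem sig_mem_LatU (hM : IsPModular p M) (ρ : Representation ℂ G V) (U : Subgroup G) (x : V) {v : V}
    (hv : v ∈ Lat hM ρ x) : sig ρ U v ∈ LatU hM ρ U x := by
  have : Fintype U := Fintype.ofFinite U
  refine ⟨?_, fun u hu => apply_sig ρ U hu v⟩
  rw [sig_eq]
  exact Submodule.sum_mem _ fun u _ => apply_mem_Lat hM ρ x _ hv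

omit [FiniteDimensional ℂ V] in
theorem sig_mem_span (hM : IsPModular p M) (ρ : Representation ℂ G V) (U : Subgroup G) (x : V) {v : V}
    (hv : v ∈ Lat hM ρ x) :
    sig ρ U v ∈ Submodule.span (locRing hM) (Set.range fun g => sig ρ U (ρ g x)) := by
  unfold Lat at hv
  induction hv using Submodule.span_induction with
  | mem v hv =>
    obtain ⟨h, rfl⟩ := hv
    exact Submodule.subset_span ⟨h, rfl⟩
  | zero =>
    have := sig_smul ρ U 0 (0 : V)
    rw [zero_smul, zero_smul] at this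
    rw [this]
    exact zero_mem _
  | add v w _ _ h1 h2 => rw [sig_add]; exact add_mem h1 h2
  | smul c v _ h =>
    have h1 : sig ρ U (c • v) = c • sig ρ U v := sig_smul ρ U (c : ℂ) v
    rw [h1]
    exact Submodule.smul_mem _ _ h

/-- `Λ^U = σ Λ` for a character of `p`-defect zero -/
theorem LatU_le (hM : IsPModular p M) (ρ : Representation ℂ G V) (hρ : ρ.IsIrreducible) (U : Subgroup G) (x : V)
    {g₀ : G} (h1 : MemLocalRing M ((Nat.card G : ℂ) * ρ.character g₀ / (Module.finrank ℂ V : ℂ)))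
    (h2 : ¬ MemLocalIdeal M ((Nat.card G : ℂ) * ρ.character g₀ / (Module.finrank ℂ V : ℂ))) :
    LatU hM ρ U x ≤ Submodule.span (locRing hM) (Set.range fun g => sig ρ U (ρ g x)) := by
  classical
  have : Fintype G := Fintype.ofFinite G
  have : Fintype U := Fintype.ofFinite U
  have : Fintype (G ⧸ U) := Fintype.ofFinite _
  rintro v ⟨hv1, hv2⟩
  set c : ℂ := (Nat.card G : ℂ) * ρ.character g₀ / (Module.finrank ℂ V : ℂ) with hc
  have hc0 : c ≠ 0 := ne_zero_of_not_memLocalIdeal hM h2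
  have h3 : (∑ h : G, ρ (h * g₀ * h⁻¹) v) = c • v := by
    have := congrArg (fun f : V →ₗ[ℂ] V => f v) (sum_conj ρ hρ g₀)
    simpa only [LinearMap.sum_apply, LinearMap.smul_apply, LinearMap.id_apply] using this
  set w : V := ∑ q : G ⧸ U, ρ (q.out⁻¹ * g₀ * q.out) v with hw
  have h4 : (∑ h : G, ρ (h * g₀ * h⁻¹) v) = sig ρ U w := by
    rw [← Equiv.sum_comp (Equiv.inv G), sum_out U, hw, sig_sum]
    refine Finset.sum_congr rfl fun q _ => ?_
    rw [sig_eq, ← Equiv.sum_comp (Equiv.inv U) (fun u : U => ρ (u : G) (ρ (q.out⁻¹ * g₀ * q.out) v))]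
    refine Finset.sum_congr rfl fun u _ => ?_
    simp only [Equiv.inv_apply, inv_inv, mul_inv_rev]
    have h5 : ((u : G)⁻¹ * (q.out : G)⁻¹) * g₀ * (q.out * (u : G)) = (u : G)⁻¹ * ((q.out : G)⁻¹ * g₀ * q.out) * (u : G) := by
      group
    rw [h5, map_mul, map_mul, Module.End.mul_apply, Module.End.mul_apply, hv2 _ u.2, Subgroup.coe_inv]
  have h5 : w ∈ Lat hM ρ x := Submodule.sum_mem _ fun q _ => apply_mem_Lat hM ρ x _ hv1
  have h6 : v = (⟨c⁻¹, memLocalRing_inv h1 h2⟩ : locRing hM) • sig ρ U w := by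
    change v = c⁻¹ • sig ρ U w
    rw [← h4, h3, smul_smul, inv_mul_cancel₀ hc0, one_smul]
  rw [h6]
  exact Submodule.smul_mem _ _ (sig_mem_span hM ρ U x h5)

/-- **The core.**  `ρ` irreducible with a local unit `#G χ(g₀)/χ(1)`, `U` a `p`-group with nonzero fixed vectors,
`T` abelian normalising `U`, every `g` in `U n₀ T U` or with `U ∩ gUg⁻¹ ≠ 1`. -/
theorem core (hM : IsPModular p M) (ρ : Representation ℂ G V) (hρ : ρ.IsIrreducible)
    {g₀ : G} (h1 : MemLocalRing M ((Nat.card G : ℂ) * ρ.character g₀ / (Module.finrank ℂ V : ℂ)))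
    (h2 : ¬ MemLocalIdeal M ((Nat.card G : ℂ) * ρ.character g₀ / (Module.finrank ℂ V : ℂ)))
    (U T : Subgroup G) (hU : IsPGroup p U) (hT : ∀ t ∈ T, ∀ u ∈ U, t⁻¹ * u * t ∈ U)
    (hTc : ∀ s ∈ T, ∀ t ∈ T, s * t = t * s) (n₀ : G)
    (hcell : ∀ g : G, (∃ u ∈ U, ∃ t ∈ T, ∃ u' ∈ U, g = u * n₀ * t * u') ∨ ∃ z ∈ U, z ≠ 1 ∧ g⁻¹ * z * g ∈ U)
    (hfix : ∃ v : V, v ≠ 0 ∧ ∀ u ∈ U, ρ u v = v) :
    ∃ x : V, x ≠ 0 ∧ (∀ u ∈ U, ρ u x = x) ∧ (∀ t ∈ T, ∃ c : ℂ, ρ t x = c • x) ∧
      (∀ v : V, (∀ u ∈ U, ρ u v = v) → ∃ c : ℂ, v = c • x) ∧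
      (∃ β : ℂ, MemLocalRing M β ∧ ¬ MemLocalIdeal M β ∧ sig ρ U (ρ n₀ x) = β • x) ∧
      (∀ g : G, ∃ τ : ℂ, MemLocalRing M τ ∧ sig ρ U (ρ g x) = (Nat.card (Rg U g) : ℂ) • τ • x) := by
  classical
  have hp : p.Prime := hM.1
  have : Fact p.Prime := ⟨hp⟩
  have : Fintype G := Fintype.ofFinite G
  have : Fintype U := Fintype.ofFinite U
  obtain ⟨v₀, hv₀, hv₀'⟩ := hfix
  -- the weight vector
  obtain ⟨x, hx, hx0, hxT⟩ := exists_common (V := V) {f | ∃ t ∈ T, f = ρ t}
    (by
      rintro _ ⟨s, hs, rfl⟩ _ ⟨t, ht, rfl⟩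
      rw [← map_mul, ← map_mul, hTc s hs t ht])
    { carrier := {v | ∀ u ∈ U, ρ u v = v}
      add_mem' := fun {a b} ha hb u hu => by rw [map_add, ha u hu, hb u hu]
      zero_mem' := fun u hu => map_zero _
      smul_mem' := fun c v hv u hu => by rw [map_smul, hv u hu] }
    (by
      intro h
      apply hv₀
      have h3 : v₀ ∈ (⊥ : Submodule ℂ V) := by
        rw [← h]
        exact hv₀'
      exact (Submodule.mem_bot ℂ).1 h3)
    (by
      rintro _ ⟨t, ht, rfl⟩ w hw u hu
      change ρ u (ρ t w) = ρ t w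
      have h3 : ρ (t⁻¹ * u * t) w = w := hw _ (hT t ht u hu)
      rw [← Module.End.mul_apply, ← map_mul, show u * t = t * (t⁻¹ * u * t) by group, map_mul, Module.End.mul_apply, h3])
  have hxU : ∀ u ∈ U, ρ u x = x := hx
  have hxT' : ∀ t ∈ T, ∃ c : ℂ, ρ t x = c • x := fun t ht => hxT _ ⟨t, ht, rfl⟩
  set y₀ : V := sig ρ U (ρ n₀ x) with hy₀
  set N : Submodule (locRing hM) V := LatU hM ρ U x with hN
  have hNspan : N = Submodule.span (locRing hM) (Set.range fun g => sig ρ U (ρ g x)) := by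
    apply le_antisymm (LatU_le hM ρ hρ U x h1 h2)
    rw [Submodule.span_le]
    rintro _ ⟨g, rfl⟩
    exact sig_mem_LatU hM ρ U x (Submodule.subset_span ⟨g, rfl⟩)
  have hNfg : N.FG := by
    rw [hNspan]
    exact Submodule.fg_span (Set.finite_range _)
  -- the coset sums
  have hw : ∀ g : G, ∃ w ∈ N, sig ρ U (ρ g x) = (Nat.card (Rg U g) : ℂ) • w := by
    intro g
    have : Fintype (U ⧸ Rg U g) := Fintype.ofFinite _
    have h3 := sig_eq_smul ρ U g hxU
    refine ⟨∑ q : U ⧸ Rg U g, ρ ((q.out : U) : G) (ρ g x), ⟨?_, fun u hu => ?_⟩, by rw [h3, Nat.cast_smul_eq_nsmul]⟩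
    · exact Submodule.sum_mem _ fun q _ => apply_mem_Lat hM ρ x _ (Submodule.subset_span ⟨g, rfl⟩)
    · have h4 := apply_sig ρ U hu (ρ g x)
      rw [h3, map_nsmul] at h4
      have h5 : (Nat.card (Rg U g) : ℂ) ≠ 0 := by exact_mod_cast Nat.card_pos.ne'
      rw [← Nat.cast_smul_eq_nsmul ℂ, ← Nat.cast_smul_eq_nsmul ℂ] at h4
      exact smul_right_injective V h5 h4
  -- Nakayama
  have hle : N ≤ Submodule.span (locRing hM) {y₀} := by
    refine Submodule.le_of_le_smul_of_le_jacobson_bot hNfg (locIdeal_le_jacobson hM) ?_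
    conv_lhs => rw [hNspan]
    rw [Submodule.span_le]
    rintro _ ⟨g, rfl⟩
    rcases hcell g with ⟨u, hu, t, ht, u', hu', rfl⟩ | ⟨z, hz, hz1, hzg⟩
    · apply Submodule.mem_sup_left
      obtain ⟨c, hc⟩ := hxT' t ht
      have h3 : sig ρ U (ρ (u * n₀ * t * u') x) = c • y₀ := by
        rw [map_mul, Module.End.mul_apply, hxU u' hu', map_mul, Module.End.mul_apply, hc, map_smul, sig_smul,
          map_mul, Module.End.mul_apply, sig_apply ρ U hu]
      have h4 : MemLocalRing M c := by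
        apply memLocalRing_of_isIntegral hM
        have h5 : ∀ k : ℕ, ρ (t ^ k) x = c ^ k • x := by
          intro k
          induction k with
          | zero => simp
          | succ k ih => rw [pow_succ, map_mul, Module.End.mul_apply, hc, map_smul, ih, smul_smul, pow_succ, mul_comm]
        have h6 := h5 (orderOf t)
        rw [pow_orderOf_eq_one, map_one, Module.End.one_apply] at h6
        have h7 : c ^ orderOf t = 1 := by
          have h8 : (1 : ℂ) • x = c ^ orderOf t • x := by rw [one_smul]; exact h6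
          exact (smul_left_injective ℂ hx0 h8).symm
        exact IsIntegral.of_pow (orderOf_pos t) (h7 ▸ isIntegral_one)
      change sig ρ U (ρ (u * n₀ * t * u') x) ∈ _
      rw [h3]
      exact Submodule.smul_mem _ (⟨c, h4⟩ : locRing hM) (Submodule.mem_span_singleton_self y₀)
    · apply Submodule.mem_sup_right
      obtain ⟨w, hwN, hw'⟩ := hw g
      change sig ρ U (ρ g x) ∈ _
      have h3 : p ∣ Nat.card (Rg U g) := by
        have h4 : Nontrivial (Rg U g) := ⟨⟨⟨⟨z, hz⟩, hzg⟩, 1, fun h => hz1 (by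
          have := congrArg (fun a : Rg U g => ((a : U) : G)) h
          simpa using this)⟩⟩
        have h5 : IsPGroup p (Rg U g) := hU.to_subgroup _
        obtain ⟨n, hn, h6⟩ := (IsPGroup.nontrivial_iff_card h5).1 h4
        rw [h6]
        exact dvd_pow_self p hn.ne'
      rw [hw']
      have h4 : MemLocalRing M (Nat.card (Rg U g) : ℂ) := memLocalRing_natCast hM _
      have h5 : (⟨(Nat.card (Rg U g) : ℂ), h4⟩ : locRing hM) ∈ locIdeal hM := by
        rw [mem_locIdeal]
        exact (memLocalIdeal_natCast_iff hM _).2 h3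
      exact Submodule.smul_mem_smul h5 hwN
  have hy₀N : y₀ ∈ N := sig_mem_LatU hM ρ U x (Submodule.subset_span ⟨n₀, rfl⟩)
  have hcoord : ∀ w ∈ N, ∃ γ : ℂ, MemLocalRing M γ ∧ w = γ • y₀ := by
    intro w hw
    obtain ⟨γ, hγ⟩ := Submodule.mem_span_singleton.1 (hle hw)
    exact ⟨γ, γ.2, hγ.symm⟩
  have hxN : x ∈ N := ⟨Submodule.subset_span ⟨1, by simp⟩, hxU⟩
  obtain ⟨α, hα, hxα⟩ := hcoord x hxN
  have hα0 : α ≠ 0 := by
    rintro rfl
    rw [zero_smul] at hxα
    exact hx0 hxα
  have hy₀x : y₀ = α⁻¹ • x := by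
    conv_rhs => rw [hxα]
    rw [smul_smul, inv_mul_cancel₀ hα0, one_smul]
  have hy₀0 : y₀ ≠ 0 := by
    intro h
    rw [h, smul_zero] at hxα
    exact hx0 hxα
  have hβ : MemLocalRing M α⁻¹ := by
    obtain ⟨γ, hγ, h3⟩ := hcoord _ (sig_mem_LatU hM ρ U x (apply_mem_Lat hM ρ x n₀ hy₀N.1))
    have h4 : sig ρ U (ρ n₀ y₀) = α⁻¹ • y₀ := by
      conv_lhs => rw [hy₀x]
      rw [map_smul, sig_smul]
    rw [h4] at h3
    rw [smul_left_injective ℂ hy₀0 h3]
    exact hγ
  refine ⟨x, hx0, hxU, hxT', ?_, ⟨α⁻¹, hβ, ?_, hy₀x⟩, ?_⟩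
  · intro v hv
    have h3 : ∀ w ∈ Submodule.span ℂ (Set.range fun g => ρ g x), ∃ c : ℂ, sig ρ U w = c • x := by
      intro w hw'
      induction hw' using Submodule.span_induction with
      | mem w hw' =>
        obtain ⟨g, rfl⟩ := hw'
        obtain ⟨γ, -, h4⟩ := hcoord _ (sig_mem_LatU hM ρ U x (Submodule.subset_span ⟨g, rfl⟩))
        exact ⟨γ * α⁻¹, by rw [h4, hy₀x, smul_smul]⟩
      | zero => exact ⟨0, by
          have := sig_smul ρ U 0 (0 : V)
          rw [zero_smul, zero_smul] at this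
          rw [this, zero_smul]⟩
      | add v w _ _ h4 h5 =>
        obtain ⟨a, ha⟩ := h4
        obtain ⟨b, hb⟩ := h5
        exact ⟨a + b, by rw [sig_add, ha, hb, add_smul]⟩
      | smul a v _ h4 =>
        obtain ⟨b, hb⟩ := h4
        exact ⟨a * b, by rw [sig_smul, hb, smul_smul]⟩
    have h4 : v ∈ Submodule.span ℂ (Set.range fun g => ρ g x) := by
      rw [span_eq_top ρ hρ hx0]
      trivial
    obtain ⟨c, hc⟩ := h3 v h4
    rw [sig_fixed ρ U hv] at hc
    have h5 : (Nat.card U : ℂ) ≠ 0 := by exact_mod_cast Nat.card_pos.ne'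
    refine ⟨(Nat.card U : ℂ)⁻¹ * c, ?_⟩
    rw [mul_smul, ← hc, smul_smul, inv_mul_cancel₀ h5, one_smul]
  · intro h
    apply not_memLocalIdeal_one hM
    have := memLocalIdeal_mul_left hM hα h
    rwa [mul_inv_cancel₀ hα0] at this
  · intro g
    obtain ⟨w, hwN, hw'⟩ := hw g
    obtain ⟨γ, hγ, h3⟩ := hcoord w hwN
    exact ⟨γ * α⁻¹, memLocalRing_mul hM hγ hβ, by rw [hw', h3, hy₀x, smul_smul γ]⟩

end lattice

end Cfsg.Agent.H996.DefectZero
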